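import Mathlib

/-!
An automorphism of prime order of an elementary abelian group preserving a nondegenerate alternating pairing.
-/

set_option autoImplicit false

namespace Cfsg.Agent.H98.ExtraEigen

variable {E Z : Type*} [CommGroup E] [CommGroup Z]

/-- `x ↦ φ x / x`. -/
def fd (φ : E ≃* E) : E →* E where
  toFun x := φ x / x
  map_one' := by simp
  map_mul' x y := by rw [map_mul, div_mul_div_comm]

theorem fd_apply (φ : E ≃* E) (x : E) : fd φ x = φ x / x := rfl

/-- A nondegenerate alternating `φ`-invariant pairing, with `φ ^ p = 1` and exponent dividing `r`. -/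
structure Setting (E Z : Type*) [CommGroup E] [CommGroup Z] (r p : ℕ) where
  β : E →* E →* Z
  φ : E ≃* E
  halt : ∀ x, β x x = 1
  hnd : ∀ x, (∀ y, β x y = 1) → x = 1
  hinv : ∀ x y, β (φ x) (φ y) = β x y
  hr : r.Prime
  hexp : ∀ x : E, x ^ r = 1
  hp : Odd p
  hpow : ∀ x, (φ^[p]) x = x

namespace Setting

variable {r p : ℕ} (S : Setting E Z r p)

include S

theorem swap (x y : E) : S.β x y * S.β y x = 1 := by
  have h := S.halt (x * y)
  simpa [S.halt, mul_comm] using h

theorem eq_inv_iterate {x : E} (h : S.φ x = x⁻¹) : x * x = 1 := by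
  obtain ⟨k, hk⟩ := S.hp
  have h2 : ∀ j, (S.φ^[2 * j + 1]) x = x⁻¹ := by
    intro j
    induction j with
    | zero => simpa using h
    | succ j ih =>
      rw [show 2 * (j + 1) + 1 = 2 + (2 * j + 1) by ring, Function.iterate_add_apply, ih]
      simp [h]
  have := (h2 k).symm.trans ((congrArg (fun j => (S.φ^[j]) x) hk).symm.trans (S.hpow x))
  nth_rw 1 [← this]
  exact inv_mul_cancel x

theorem eq_self_of_sq {x : E} (h : S.φ (S.φ x) = x) : S.φ x = x := by
  obtain ⟨k, hk⟩ := S.hp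
  have h2 : ∀ j, (S.φ^[2 * j + 1]) x = S.φ x := by
    intro j
    induction j with
    | zero => simp
    | succ j ih =>
      rw [show 2 * (j + 1) + 1 = 2 + (2 * j + 1) by ring, Function.iterate_add_apply, ih]
      simp [h]
  exact (h2 k).symm.trans ((congrArg (fun j => (S.φ^[j]) x) hk).symm.trans (S.hpow x))

/-- If `β x (φ x) = 1` for all `x`, then `φ = 1`. -/
theorem eq_self_of_all (h : ∀ x, S.β x (S.φ x) = 1) (x : E) : S.φ x = x := by
  refine S.eq_self_of_sq ?_
  have key : ∀ a b, S.β a (S.φ b) = S.β (S.φ (S.φ a)) (S.φ b) := fun a b => by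
    have h1 := h (a * b)
    simp only [map_mul, MonoidHom.mul_apply, h, one_mul, mul_one] at h1
    rw [S.hinv]
    calc S.β a (S.φ b) = (S.β b (S.φ a))⁻¹ := eq_inv_of_mul_eq_one_left (by rw [mul_comm]; simpa [mul_comm] using h1)
      _ = S.β (S.φ a) b := (eq_inv_of_mul_eq_one_right (S.swap b (S.φ a))).symm
  rw [← div_eq_one]
  refine S.hnd _ fun y => ?_
  obtain ⟨b, rfl⟩ := S.φ.surjective y
  rw [map_div, MonoidHom.div_apply, ← key, div_self']

theorem fd_comm (x : E) : S.φ (fd S.φ x) = fd S.φ (S.φ x) := by simp [fd_apply]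

theorem fd_fixed (h : ∀ x, S.β (fd S.φ x) (S.φ (fd S.φ x)) = 1) (x : E) :
    fd S.φ (fd S.φ (fd S.φ (S.φ x * x))) = 1 := by
  set v := fd S.φ x with hv
  have hw : fd S.φ (fd S.φ (S.φ x * x)) = S.φ (S.φ v) / v := by
    rw [map_mul (fd S.φ) (S.φ x), ← S.fd_comm, ← hv, fd_apply, map_mul]
    simp only [div_eq_mul_inv, mul_inv_rev]
    rw [mul_comm v⁻¹, mul_assoc, ← mul_assoc (S.φ v), mul_inv_cancel, one_mul]
  rw [hw, fd_apply, div_eq_one]
  set w := S.φ (S.φ v) / v with hwdef
  have key : ∀ b, S.β w (fd S.φ b) = 1 := by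
    intro b
    obtain ⟨b, rfl⟩ := S.φ.surjective b
    rw [← S.fd_comm, hwdef, map_div, MonoidHom.div_apply, div_eq_one]
    have h1 := h (x * b)
    simp only [map_mul, MonoidHom.mul_apply, h, one_mul, mul_one] at h1
    rw [S.hinv]
    calc S.β (S.φ v) (fd S.φ b) = (S.β (fd S.φ b) (S.φ v))⁻¹ :=
          eq_inv_of_mul_eq_one_right (S.swap (fd S.φ b) (S.φ v))
      _ = S.β v (S.φ (fd S.φ b)) :=
          (eq_inv_of_mul_eq_one_left (by rw [mul_comm]; simpa [mul_comm] using h1)).symm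
  rw [← div_eq_one]
  refine S.hnd _ fun y => ?_
  obtain ⟨b, rfl⟩ := S.φ.surjective y
  have := key b
  rw [fd_apply, map_div, div_eq_one] at this
  rw [map_div, MonoidHom.div_apply, S.hinv, ← this, div_self']

theorem fd_four [Finite E] (h : ∀ x, S.β (fd S.φ x) (S.φ (fd S.φ x)) = 1) (x : E) :
    fd S.φ (fd S.φ (fd S.φ (fd S.φ x))) = 1 ∧ (Odd r → fd S.φ (fd S.φ (fd S.φ x)) = 1) := by
  rcases S.hr.eq_two_or_odd' with h2 | hodd
  · refine ⟨?_, fun ho => absurd ho (by rw [h2]; decide)⟩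
    have := S.fd_fixed h x
    have hx : S.φ x * x = fd S.φ x := by
      rw [fd_apply, div_eq_mul_inv]
      congr 1
      exact (inv_eq_of_mul_eq_one_right (by rw [← pow_two, ← h2]; exact S.hexp x)).symm
    rwa [hx] at this
  · have hinj : Function.Injective (S.φ.toMonoidHom * MonoidHom.id E : E →* E) := by
      rw [injective_iff_map_eq_one]
      intro y hy
      have h2 := S.eq_inv_iterate (eq_inv_of_mul_eq_one_left hy)
      have h3 : y ^ Nat.gcd 2 r = 1 := pow_gcd_eq_one.2 ⟨by rw [pow_two]; exact h2, S.hexp y⟩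
      rwa [Nat.coprime_two_left.2 hodd |>.gcd_eq_one, pow_one] at h3
    obtain ⟨y, rfl⟩ := Finite.injective_iff_surjective.1 hinj x
    have := S.fd_fixed h y
    exact ⟨(congrArg (fd S.φ) this).trans (map_one _), fun _ => this⟩

theorem eq_self_of_fd_fd (hpp : p.Prime) (hne : p ≠ r) {v : E} (h : fd S.φ (fd S.φ v) = 1) :
    fd S.φ v = 1 := by
  have hfix : S.φ (fd S.φ v) = fd S.φ v := by simpa [fd_apply, div_eq_one] using h
  have hk : ∀ k, (S.φ^[k]) v = v * fd S.φ v ^ k := by
    intro k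
    induction k with
    | zero => simp
    | succ k ih =>
      rw [Function.iterate_succ_apply', ih, map_mul, map_pow, hfix, pow_succ, fd_apply]
      rw [mul_comm ((S.φ v / v) ^ k), ← mul_assoc, mul_div_cancel]
  have h1 : fd S.φ v ^ p = 1 := by
    have := S.hpow v
    rw [hk] at this
    simpa using this
  have h3 : fd S.φ v ^ Nat.gcd p r = 1 := pow_gcd_eq_one.2 ⟨h1, S.hexp _⟩
  rwa [(Nat.coprime_primes hpp S.hr).2 hne |>.gcd_eq_one, pow_one] at h3

/-- If `p ≠ r` and `β (f x) (φ (f x)) = 1` for all `x`, then `φ = 1`. -/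
theorem eq_self [Finite E] (hpp : p.Prime) (hne : p ≠ r)
    (h : ∀ x, S.β (fd S.φ x) (S.φ (fd S.φ x)) = 1) (x : E) : S.φ x = x := by
  have h4 := (S.fd_four h x).1
  have h3 := S.eq_self_of_fd_fd hpp hne h4
  have h2 := S.eq_self_of_fd_fd hpp hne h3
  have h1 := S.eq_self_of_fd_fd hpp hne h2
  simpa [fd_apply, div_eq_one] using h1

end Setting

end Cfsg.Agent.H98.ExtraEigen
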