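import Mathlib

/-!
Bounds for eigenspaces from operators permuting them.
-/

set_option autoImplicit false

namespace Cfsg.Agent.H98.ExtraEigen

open Module Module.End

variable {F : Type*} [Field F] {V : Type*} [AddCommGroup V] [Module F V] [FiniteDimensional F V]

theorem sum_finrank_le_of_injOn {κ : Type*} (f : Module.End F V) (s : Finset κ) (μ : κ → F)
    (hμ : Set.InjOn μ s) (Z : Submodule F V) :
    ∑ k ∈ s, finrank F ↥(f.eigenspace (μ k) ⊓ Z) ≤ finrank F Z := by
  classical
  have key : ∀ t : Finset κ, t ⊆ s → ∑ k ∈ t, finrank F ↥(f.eigenspace (μ k) ⊓ Z) ≤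
      finrank F ↥(t.sup fun k => f.eigenspace (μ k) ⊓ Z) := by
    intro t
    induction t using Finset.induction_on with
    | empty => simp
    | insert k t hk ih =>
      intro hts
      rw [Finset.insert_subset_iff] at hts
      rw [Finset.sum_insert hk, Finset.sup_insert]
      have hdisj : (f.eigenspace (μ k) ⊓ Z) ⊓ t.sup (fun j => f.eigenspace (μ j) ⊓ Z) = ⊥ := by
        refine disjoint_iff.1 (Disjoint.mono inf_le_left ?_
          ((f.eigenspaces_iSupIndep).disjoint_biSup (y := μ '' t) (x := μ k) ?_))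
        · exact Finset.sup_le fun j hj => inf_le_left.trans (le_biSup f.eigenspace ⟨j, hj, rfl⟩)
        · rintro ⟨j, hj, h⟩
          exact hk (hμ (hts.2 hj) hts.1 h ▸ hj)
      have h := Submodule.finrank_sup_add_finrank_inf_eq (f.eigenspace (μ k) ⊓ Z)
        (t.sup fun j => f.eigenspace (μ j) ⊓ Z)
      rw [hdisj, finrank_bot, add_zero] at h
      rw [h]
      exact Nat.add_le_add_left (ih hts.2) _
  exact (key s subset_rfl).trans (Submodule.finrank_mono (Finset.sup_le fun _ _ => inf_le_right))

/-- Subspaces lying in eigenspaces, each value taken at most `m` times. -/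
theorem sum_finrank_le {κ : Type*} [DecidableEq F] (f : Module.End F V) (s : Finset κ) (μ : κ → F)
    (U : κ → Submodule F V) (Z : Submodule F V) (hU : ∀ k ∈ s, U k ≤ f.eigenspace (μ k) ⊓ Z) {m : ℕ}
    (hm : ∀ k₀ ∈ s, (s.filter fun k => μ k = μ k₀).card ≤ m) :
    ∑ k ∈ s, finrank F (U k) ≤ m * finrank F Z := by
  refine le_trans (Finset.sum_le_sum fun k hk => Submodule.finrank_mono (hU k hk)) ?_
  rw [← Finset.sum_fiberwise_of_maps_to (t := s.image μ) (g := μ) fun k hk => Finset.mem_image_of_mem μ hk]
  refine le_trans (Finset.sum_le_sum (g := fun v => m * finrank F ↥(f.eigenspace v ⊓ Z)) fun v hv => ?_) ?_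
  · obtain ⟨k₀, hk₀, rfl⟩ := Finset.mem_image.1 hv
    rw [Finset.sum_congr rfl fun k hk => by rw [(Finset.mem_filter.1 hk).2], Finset.sum_const, smul_eq_mul]
    exact Nat.mul_le_mul_right _ (hm k₀ hk₀)
  · rw [← Finset.mul_sum]
    exact Nat.mul_le_mul_left _ (sum_finrank_le_of_injOn f _ id (Set.injOn_id _) Z)

theorem finrank_map_unit (a : (Module.End F V)ˣ) (W : Submodule F V) :
    finrank F (W.map (a : Module.End F V)) = finrank F W := by
  refine (Submodule.equivMapOfInjective _ ?_ W).finrank_eq.symm
  exact Function.LeftInverse.injective (g := ((a⁻¹ : (Module.End F V)ˣ) : Module.End F V))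
    fun x => by rw [← Module.End.mul_apply, Units.inv_mul, Module.End.one_apply]

/-- Translates `a ^ i W` of a subspace lying in distinct eigenspaces. -/
theorem mul_finrank_le_of_translates (f : Module.End F V) (a : (Module.End F V)ˣ) (W Z : Submodule F V) {r : ℕ}
    (μ : ℕ → F) (hμ : Set.InjOn μ (Finset.range r))
    (h : ∀ i < r, ∀ u ∈ W, f (((a : Module.End F V) ^ i) u) = μ i • ((a : Module.End F V) ^ i) u ∧
      ((a : Module.End F V) ^ i) u ∈ Z) :
    r * finrank F W ≤ finrank F Z := by
  classical
  calc r * finrank F W = ∑ i ∈ Finset.range r, finrank F (W.map ((a : Module.End F V) ^ i)) := by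
        rw [Finset.sum_congr rfl fun i _ => by rw [← Units.val_pow_eq_pow_val, finrank_map_unit], Finset.sum_const,
          Finset.card_range, smul_eq_mul]
    _ ≤ 1 * finrank F Z := by
        refine sum_finrank_le f _ μ _ Z (fun i hi => ?_) fun i hi => ?_
        · rintro _ ⟨u, hu, rfl⟩
          have := h i (Finset.mem_range.1 hi) u hu
          exact ⟨mem_eigenspace_iff.2 this.1, this.2⟩
        · refine Finset.card_le_one.2 fun x hx y hy => ?_
          rw [Finset.mem_filter] at hx hy
          exact hμ hx.1 hy.1 (hx.2.trans hy.2.symm)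
    _ = finrank F Z := one_mul _

theorem eigenspace_zero_eq_bot (a : (Module.End F V)ˣ) : (a : Module.End F V).eigenspace 0 = ⊥ := by
  rw [eq_bot_iff]
  intro u hu
  rw [mem_eigenspace_iff, zero_smul] at hu
  have := congrArg ((a⁻¹ : (Module.End F V)ˣ) : Module.End F V) hu
  rwa [← Module.End.mul_apply, Units.inv_mul, Module.End.one_apply, map_zero] at this

omit [FiniteDimensional F V] in
theorem pow_mul_of_twist {f a : Module.End F V} {z : F} (h : f * a = z • (a * f)) (i : ℕ) :
    f * a ^ i = z ^ i • (a ^ i * f) := by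
  induction i with
  | zero => simp
  | succ i ih =>
    rw [pow_succ, ← mul_assoc, ih, smul_mul_assoc, mul_assoc, h, mul_smul_comm, smul_smul, ← pow_succ, ← mul_assoc]

/-- An operator twisted by a primitive root moves an eigenspace through `r` different ones. -/
theorem mul_finrank_eigenspace_le (f : (Module.End F V)ˣ) (a : (Module.End F V)ˣ) {r : ℕ} {z : F}
    (hz : IsPrimitiveRoot z r) (h : (f : Module.End F V) * a = z • ((a : Module.End F V) * f)) (c : F) :
    r * finrank F ↥((f : Module.End F V).eigenspace c) ≤ finrank F V := by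
  rcases eq_or_ne c 0 with rfl | hc
  · rw [eigenspace_zero_eq_bot]; simp
  refine le_of_le_of_eq (mul_finrank_le_of_translates (f : Module.End F V) a _ ⊤ (fun i => z ^ i * c)
    (fun i hi j hj hij => hz.pow_inj (Finset.mem_range.1 hi) (Finset.mem_range.1 hj) (mul_right_cancel₀ hc hij))
    fun i _ u hu => ⟨?_, trivial⟩) (finrank_top F V)
  rw [← Module.End.mul_apply, pow_mul_of_twist h, LinearMap.smul_apply, Module.End.mul_apply,
    mem_eigenspace_iff.1 hu, map_smul, smul_smul]

/-- A subspace stable under `y`, `y ^ r = 1`, is covered by its parts in the eigenspaces of `y`. -/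
theorem finrank_le_sum_eigen {y : Module.End F V} {r : ℕ} (hr : 1 < r) (hy : y ^ r = 1) {z : F}
    (hz : IsPrimitiveRoot z r) (W : Submodule F V) (hW : ∀ u ∈ W, y u ∈ W) :
    finrank F W ≤ ∑ j ∈ Finset.range r, finrank F ↥(W ⊓ y.eigenspace (z ^ j)) := by
  have : NeZero r := ⟨by omega⟩
  have hr0 : (r : F) ≠ 0 := (hz.neZero').out
  have hz0 : z ≠ 0 := hz.ne_zero (by omega)
  have hWp : ∀ (i : ℕ) (u), u ∈ W → (y ^ i) u ∈ W := by
    intro i
    induction i with
    | zero => simp
    | succ i ih =>
      intro u hu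
      rw [pow_succ', Module.End.mul_apply]
      exact hW _ (ih u hu)
  let e : ℕ → Module.End F V := fun j => ∑ i ∈ Finset.range r, ((z ^ j)⁻¹) ^ i • y ^ i
  have hey : ∀ j, y * e j = z ^ j • e j := by
    intro j
    set x := (z ^ j)⁻¹ with hx
    have hxr : x ^ r = 1 := by rw [hx, inv_pow, ← pow_mul, mul_comm, pow_mul, hz.pow_eq_one, one_pow, inv_one]
    have h1 : (x • y) ^ r = 1 := by rw [smul_pow, hy, hxr, one_smul]
    have h2 : e j = ∑ i ∈ Finset.range r, (x • y) ^ i := Finset.sum_congr rfl fun i _ => (smul_pow x y i).symm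
    have h3 := mul_geom_sum (x • y) r
    rw [h1, sub_self, sub_mul, one_mul, ← h2, sub_eq_zero, smul_mul_assoc] at h3
    conv_rhs => rw [← h3]
    rw [smul_smul, hx, mul_inv_cancel₀ (pow_ne_zero _ hz0), one_smul]
  have hsum : ∑ j ∈ Finset.range r, e j = (r : F) • (1 : Module.End F V) := by
    rw [Finset.sum_comm, Finset.sum_eq_single 0]
    · simp [← Finset.sum_smul, Nat.cast_smul_eq_nsmul]
    · intro i hi hi0
      rw [← Finset.sum_smul]
      have hne : (z⁻¹ ^ i) ≠ 1 := fun h => hi0 ((hz.inv.pow_inj (Finset.mem_range.1 hi) (by omega))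
        (by rw [h, pow_zero]))
      have hs : ∑ j ∈ Finset.range r, ((z ^ j)⁻¹) ^ i = 0 := by
        have h1 : ∀ j, ((z ^ j)⁻¹) ^ i = (z⁻¹ ^ i) ^ j := fun j => by rw [← inv_pow, ← pow_mul, ← pow_mul, mul_comm]
        rw [Finset.sum_congr rfl fun j _ => h1 j, geom_sum_eq hne, ← pow_mul, mul_comm, pow_mul, inv_pow,
          hz.pow_eq_one, inv_one, one_pow, sub_self, zero_div]
      rw [hs, zero_smul]
    · simp [show r ≠ 0 by omega]
  have hmem : ∀ u ∈ W, ∀ j, (e j) u ∈ W ⊓ y.eigenspace (z ^ j) := by
    intro u hu j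
    refine ⟨?_, mem_eigenspace_iff.2 ?_⟩
    · rw [LinearMap.sum_apply]
      exact W.sum_mem fun i _ => W.smul_mem _ (hWp i u hu)
    · rw [← Module.End.mul_apply, hey, LinearMap.smul_apply]
  have hle : W ≤ (Finset.range r).sup fun j => W ⊓ y.eigenspace (z ^ j) := by
    intro u hu
    have h : u = (r : F)⁻¹ • ∑ j ∈ Finset.range r, (e j) u := by
      rw [← LinearMap.sum_apply, hsum, LinearMap.smul_apply, Module.End.one_apply, smul_smul, inv_mul_cancel₀ hr0,
        one_smul]
    rw [h]
    exact Submodule.smul_mem _ _ (Submodule.sum_mem _ fun j hj =>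
      Finset.le_sup (f := fun j => W ⊓ y.eigenspace (z ^ j)) hj (hmem u hu j))
  refine (Submodule.finrank_mono hle).trans ?_
  generalize Finset.range r = s
  classical
  induction s using Finset.induction_on with
  | empty => simp
  | insert k s hk ih =>
    rw [Finset.sum_insert hk, Finset.sup_insert]
    exact (Submodule.finrank_add_le_finrank_add_finrank _ _).trans (Nat.add_le_add_left ih _)

/-- `g y = s y z g` with `z` commuting with `g` and `y`. -/
theorem two_mul_finrank_le_linear (g y z : (Module.End F V)ˣ) {r : ℕ} (hr : r.Prime) {e s : F}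
    (he : IsPrimitiveRoot e r) (hgz : Commute (g : Module.End F V) z) (hyz : Commute (y : Module.End F V) z)
    (hy : (y : Module.End F V) ^ r = 1) (hzr : (z : Module.End F V) ^ r = 1)
    (hgy : (g : Module.End F V) * y = s • ((y : Module.End F V) * z * g))
    (hdim : ∀ ν, r * finrank F ↥((z : Module.End F V).eigenspace ν) ≤ finrank F V) (c : F) :
    r * finrank F ↥((g : Module.End F V).eigenspace c) ≤ 2 * finrank F V := by
  classical
  rcases eq_or_ne c 0 with rfl | hc
  · rw [eigenspace_zero_eq_bot]; simp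
  rcases subsingleton_or_nontrivial V with hV | hV
  · simp [finrank_zero_of_subsingleton]
  have hpow : ∀ i, (g : Module.End F V) * (y : Module.End F V) ^ i =
      s ^ i • ((y : Module.End F V) ^ i * (z : Module.End F V) ^ i * g) := by
    intro i
    induction i with
    | zero => simp
    | succ i ih =>
      rw [pow_succ, ← mul_assoc, ih, smul_mul_assoc, mul_assoc, hgy, mul_smul_comm, smul_smul, ← pow_succ s,
        pow_succ (z : Module.End F V)]
      congr 1
      rw [← mul_assoc, ← mul_assoc, mul_assoc ((y : Module.End F V) ^ i), ← (hyz.pow_right i).eq]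
      simp only [mul_assoc]
  have hs : s ^ r = 1 := by
    have h := hpow r
    rw [hy, hzr, mul_one, one_mul, one_mul] at h
    have h' : (1 : F) • (g : Module.End F V) = s ^ r • (g : Module.End F V) := by rw [one_smul]; exact h
    exact (smul_left_injective F g.ne_zero h').symm
  haveI : NeZero r := ⟨hr.ne_zero⟩
  obtain ⟨t, -, rfl⟩ := he.eq_pow_of_pow_eq_one hs
  set W := (g : Module.End F V).eigenspace c with hW
  have hWz : ∀ u ∈ W, (z : Module.End F V) u ∈ W := fun u hu => by
    rw [hW, mem_eigenspace_iff, ← Module.End.mul_apply, hgz.eq, Module.End.mul_apply, mem_eigenspace_iff.1 hu,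
      map_smul]
  have h1 := finrank_le_sum_eigen hr.one_lt hzr he W hWz
  let Zs : ℕ → Submodule F V := fun j => (z : Module.End F V).eigenspace (e ^ j)
  have hbound : ∀ j ∈ Finset.range r, r * finrank F ↥(W ⊓ Zs j) ≤
      finrank F (Zs j) + (if e ^ t * e ^ j = 1 then finrank F V else 0) := by
    intro j _
    split
    · exact ((Nat.mul_le_mul_left r (Submodule.finrank_mono inf_le_right)).trans (hdim _)).trans
        (Nat.le_add_left _ _)
    · rename_i hne
      rw [add_zero]
      have hp : IsPrimitiveRoot (e ^ t * e ^ j) r := IsPrimitiveRoot.iff_orderOf.2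
        (haveI := Fact.mk hr; orderOf_eq_prime (by rw [mul_pow, hs, one_mul, ← pow_mul, mul_comm, pow_mul,
          he.pow_eq_one, one_pow]) hne)
      refine mul_finrank_le_of_translates (g : Module.End F V) y _ (Zs j) (fun i => (e ^ t * e ^ j) ^ i * c)
        (fun i hi k hk hik => hp.pow_inj (Finset.mem_range.1 hi) (Finset.mem_range.1 hk) (mul_right_cancel₀ hc hik))
        fun i _ u hu => ?_
      obtain ⟨huW, huZ⟩ := hu
      have hzu : ((z : Module.End F V) ^ i) u = (e ^ j) ^ i • u := by
        clear * - huZ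
        induction i with
        | zero => simp
        | succ i ih =>
          rw [pow_succ, Module.End.mul_apply, mem_eigenspace_iff.1 huZ, map_smul, ih, smul_smul, ← pow_succ']
      refine ⟨?_, ?_⟩
      · rw [← Module.End.mul_apply, hpow, LinearMap.smul_apply, Module.End.mul_apply, Module.End.mul_apply,
          mem_eigenspace_iff.1 huW, map_smul, hzu, smul_smul, map_smul, smul_smul, mul_pow]
        congr 1
        ring
      · show _ ∈ (z : Module.End F V).eigenspace (e ^ j)
        rw [mem_eigenspace_iff, ← Module.End.mul_apply, ← (hyz.pow_left i).eq, Module.End.mul_apply,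
          mem_eigenspace_iff.1 huZ, map_smul]
  have hZ : ∑ j ∈ Finset.range r, finrank F (Zs j) ≤ finrank F V := by
    have := sum_finrank_le_of_injOn (z : Module.End F V) (Finset.range r) (fun j => e ^ j)
      (fun i hi k hk hik => he.pow_inj (Finset.mem_range.1 hi) (Finset.mem_range.1 hk) hik) ⊤
    exact (Finset.sum_le_sum fun j _ => Submodule.finrank_mono (le_inf le_rfl le_top)).trans
      (this.trans (finrank_top F V).le)
  have hexc : ∑ j ∈ Finset.range r, (if e ^ t * e ^ j = 1 then finrank F V else 0) ≤ finrank F V := by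
    rw [Finset.sum_ite, Finset.sum_const, Finset.sum_const_zero, add_zero, smul_eq_mul]
    refine le_trans (Nat.mul_le_mul_right _ (Finset.card_le_one.2 fun i hi k hk => ?_)) (one_mul _).le
    rw [Finset.mem_filter] at hi hk
    exact he.pow_inj (Finset.mem_range.1 hi.1) (Finset.mem_range.1 hk.1)
      (mul_left_cancel₀ (pow_ne_zero t (he.ne_zero hr.ne_zero)) (hi.2.trans hk.2.symm))
  calc r * finrank F W ≤ r * ∑ j ∈ Finset.range r, finrank F ↥(W ⊓ Zs j) := Nat.mul_le_mul_left r h1
    _ = ∑ j ∈ Finset.range r, r * finrank F ↥(W ⊓ Zs j) := Finset.mul_sum _ _ _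
    _ ≤ ∑ j ∈ Finset.range r, (finrank F (Zs j) + if e ^ t * e ^ j = 1 then finrank F V else 0) :=
        Finset.sum_le_sum hbound
    _ ≤ 2 * finrank F V := by rw [Finset.sum_add_distrib]; omega

theorem two_mul_choose_two {R : Type*} [CommRing R] (n : ℕ) :
    (2 : R) * (n.choose 2 : ℕ) = (n : R) * ((n : R) - 1) := by
  induction n with
  | zero => simp
  | succ n ih =>
    rw [Nat.choose_succ_succ', Nat.choose_one_right]
    push_cast
    linear_combination ih

/-- `g a = s a y g` with `y` commuting with `g` and `y a = e a y`, `e` primitive. -/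
theorem two_mul_finrank_le_quadratic (g a y : (Module.End F V)ˣ) {r : ℕ} (hr : r.Prime) (hodd : r ≠ 2) {e s : F}
    (he : IsPrimitiveRoot e r) (hgy : Commute (g : Module.End F V) y)
    (hay : (y : Module.End F V) * a = e • ((a : Module.End F V) * y))
    (ha : (a : Module.End F V) ^ r = 1) (hy : (y : Module.End F V) ^ r = 1)
    (hga : (g : Module.End F V) * a = s • ((a : Module.End F V) * y * g)) (c : F) :
    r * finrank F ↥((g : Module.End F V).eigenspace c) ≤ 2 * finrank F V := by
  classical
  haveI := Fact.mk hr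
  rcases eq_or_ne c 0 with rfl | hc
  · rw [eigenspace_zero_eq_bot]; simp
  rcases subsingleton_or_nontrivial V with hV | hV
  · simp [finrank_zero_of_subsingleton]
  have hyia : ∀ i, (y : Module.End F V) ^ i * a = e ^ i • ((a : Module.End F V) * (y : Module.End F V) ^ i) := by
    intro i
    induction i with
    | zero => simp
    | succ i ih =>
      rw [pow_succ', mul_assoc, ih, mul_smul_comm, ← mul_assoc, hay, smul_mul_assoc, smul_smul, ← pow_succ, mul_assoc,
        ← pow_succ']
  have hpow : ∀ i, (g : Module.End F V) * (a : Module.End F V) ^ i =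
      (s ^ i * e ^ i.choose 2) • ((a : Module.End F V) ^ i * (y : Module.End F V) ^ i * g) := by
    intro i
    induction i with
    | zero => simp
    | succ i ih =>
      have hyi := hyia i
      rw [pow_succ, ← mul_assoc, ih, smul_mul_assoc, mul_assoc, hga, mul_smul_comm, smul_smul]
      rw [← mul_assoc, ← mul_assoc, mul_assoc ((a : Module.End F V) ^ i), hyi, mul_smul_comm, smul_mul_assoc,
        smul_mul_assoc, smul_smul, Nat.choose_succ_succ', Nat.choose_one_right, pow_add, pow_succ (y : Module.End F V)]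
      simp only [mul_assoc]
      congr 1
      ring
  have hs : s ^ r = 1 := by
    have h := hpow r
    have hc2 : e ^ r.choose 2 = 1 := (he.pow_eq_one_iff_dvd _).2 (hr.dvd_choose_self (by omega)
      (lt_of_le_of_ne hr.two_le (Ne.symm hodd)))
    rw [ha, hy, hc2, mul_one, mul_one, one_mul, one_mul] at h
    have h' : (1 : F) • (g : Module.End F V) = s ^ r • (g : Module.End F V) := by rw [one_smul]; exact h
    exact (smul_left_injective F g.ne_zero h').symm
  set W := (g : Module.End F V).eigenspace c with hW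
  have hWy : ∀ u ∈ W, (y : Module.End F V) u ∈ W := fun u hu => by
    rw [hW, mem_eigenspace_iff, ← Module.End.mul_apply, hgy.eq, Module.End.mul_apply, mem_eigenspace_iff.1 hu,
      map_smul]
  haveI : NeZero r := ⟨hr.ne_zero⟩
  have he0 : e ≠ 0 := he.ne_zero hr.ne_zero
  let P : ZMod r → F := fun x => e ^ x.val
  have hP : ∀ x x', P (x + x') = P x * P x' := fun x x' => by
    show e ^ (x + x').val = e ^ x.val * e ^ x'.val
    rw [← pow_add, ZMod.val_add, ← pow_eq_pow_mod _ he.pow_eq_one]
  have hPcast : ∀ j : ℕ, P (j : ZMod r) = e ^ j := fun j => by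
    show e ^ (j : ZMod r).val = e ^ j
    rw [ZMod.val_natCast, ← pow_eq_pow_mod _ he.pow_eq_one]
  have hexp : ∀ m m' : ℕ, e ^ m = e ^ m' → (m : ZMod r) = (m' : ZMod r) := fun m m' h => by
    rw [ZMod.natCast_eq_natCast_iff']
    rw [pow_eq_pow_mod m he.pow_eq_one, pow_eq_pow_mod m' he.pow_eq_one] at h
    exact he.pow_inj (Nat.mod_lt _ hr.pos) (Nat.mod_lt _ hr.pos) h
  obtain ⟨t, -, rfl⟩ := he.eq_pow_of_pow_eq_one hs
  let Ys : ZMod r → Submodule F V := fun x => (y : Module.End F V).eigenspace (P x)
  let U : ZMod r → ZMod r → Submodule F V := fun k i => (W ⊓ Ys (k - i)).map ((a : Module.End F V) ^ i.val)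
  let μ : ZMod r → ZMod r → F := fun k i => (e ^ (t * i.val + i.val.choose 2 + (k - i).val * i.val)) * c
  have hU : ∀ k i, U k i ≤ (g : Module.End F V).eigenspace (μ k i) ⊓ Ys k := by
    rintro k i _ ⟨u, ⟨huW, huY⟩, rfl⟩
    have hyu : ∀ n, ((y : Module.End F V) ^ n) u = P (k - i) ^ n • u := by
      intro n
      induction n with
      | zero => simp
      | succ n ih =>
        rw [pow_succ, Module.End.mul_apply, mem_eigenspace_iff.1 huY, map_smul, ih, smul_smul, ← pow_succ']
    refine ⟨mem_eigenspace_iff.2 ?_, mem_eigenspace_iff.2 ?_⟩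
    · rw [← Module.End.mul_apply, hpow, LinearMap.smul_apply, Module.End.mul_apply, Module.End.mul_apply,
        mem_eigenspace_iff.1 huW, map_smul, hyu, smul_smul, map_smul, smul_smul]
      congr 1
      show _ = e ^ _ * c
      rw [pow_add, pow_add, pow_mul, pow_mul]
      ring
    · rw [← Module.End.mul_apply, pow_mul_of_twist hay, LinearMap.smul_apply, Module.End.mul_apply,
        mem_eigenspace_iff.1 huY, map_smul, smul_smul]
      congr 1
      rw [show e ^ i.val = P i from rfl, ← hP, add_sub_cancel]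
  have hk : ∀ k, ∑ i, finrank F (U k i) ≤ 2 * finrank F (Ys k) := by
    intro k
    refine sum_finrank_le _ _ (μ k) _ _ (fun i _ => hU k i) fun j _ => ?_
    refine le_trans (Finset.card_le_card (t := {j, 2 * ((t : ZMod r) + k) - 1 - j}) fun i hi => ?_) Finset.card_le_two
    rw [Finset.mem_filter] at hi
    have h := congrArg ((2 : ZMod r) * ·) (hexp _ _ (mul_right_cancel₀ hc hi.2))
    simp only [Nat.cast_add, Nat.cast_mul, mul_add, two_mul_choose_two, ZMod.natCast_zmod_val] at h
    have h3 : (i - j) * (2 * ((t : ZMod r) + k) - 1 - i - j) = 0 := by linear_combination h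
    rw [Finset.mem_insert, Finset.mem_singleton]
    rcases mul_eq_zero.1 h3 with h4 | h4
    · exact Or.inl (sub_eq_zero.1 h4)
    · exact Or.inr (by linear_combination -h4)
  have h1 : finrank F W ≤ ∑ x : ZMod r, finrank F ↥(W ⊓ Ys x) := by
    refine (finrank_le_sum_eigen hr.one_lt hy he W hWy).trans (le_of_eq ?_)
    refine Finset.sum_nbij' (fun j => (j : ZMod r)) ZMod.val (by simp) (fun x _ => by simp [ZMod.val_lt])
      (fun j hj => ZMod.val_natCast_of_lt (Finset.mem_range.1 hj)) (fun x _ => ZMod.natCast_zmod_val x)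
      fun j _ => ?_
    show _ = finrank F ↥(W ⊓ (y : Module.End F V).eigenspace (P (j : ZMod r)))
    rw [hPcast]
  have h2 : r * ∑ x : ZMod r, finrank F ↥(W ⊓ Ys x) = ∑ k, ∑ i, finrank F (U k i) := by
    have hU' : ∀ k i, finrank F (U k i) = finrank F ↥(W ⊓ Ys (k - i)) := fun k i => by
      show finrank F ((W ⊓ Ys (k - i)).map ((a : Module.End F V) ^ i.val)) = _
      rw [← Units.val_pow_eq_pow_val, finrank_map_unit]
    simp only [hU']
    rw [Finset.sum_comm]
    refine Eq.trans ?_ (Finset.sum_congr rfl fun i _ =>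
      (Equiv.sum_comp (Equiv.subRight i) fun x => finrank F ↥(W ⊓ Ys x)).symm)
    simp
  have h3 : ∑ k, finrank F (Ys k) ≤ finrank F V := by
    have := sum_finrank_le_of_injOn (y : Module.End F V) (Finset.univ : Finset (ZMod r)) P
      (fun x _ x' _ h => ZMod.val_injective r (he.pow_inj (ZMod.val_lt x) (ZMod.val_lt x') h)) ⊤
    exact (Finset.sum_le_sum fun j _ => Submodule.finrank_mono (le_inf le_rfl le_top)).trans
      (this.trans (finrank_top F V).le)
  calc r * finrank F W ≤ r * ∑ x : ZMod r, finrank F ↥(W ⊓ Ys x) := Nat.mul_le_mul_left r h1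
    _ = ∑ k, ∑ i, finrank F (U k i) := h2
    _ ≤ ∑ k, 2 * finrank F (Ys k) := Finset.sum_le_sum fun k _ => hk k
    _ = 2 * ∑ k, finrank F (Ys k) := (Finset.mul_sum _ _ _).symm
    _ ≤ 2 * finrank F V := Nat.mul_le_mul_left 2 h3

end Cfsg.Agent.H98.ExtraEigen
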