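import Cfsg.Agent.H98.ExtraEigen.Form
import Cfsg.Agent.H98.ExtraEigen.Shift

/-!
Eigenspaces of an element of prime order normalising a group of symplectic type modulo scalars.
-/

set_option autoImplicit false

namespace Cfsg.Agent.H98.ExtraEigen

open Module Module.End

variable {F : Type*} [Field F] {V : Type*} [AddCommGroup V] [Module F V]

/-- `P` acts absolutely irreducibly with commutators `r`-th roots of unity, and `g` of order `p` normalises it. -/
structure Hyp (P : Subgroup (Module.End F V)ˣ) (g : (Module.End F V)ˣ) (r p : ℕ) : Prop where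
  hr : r.Prime
  hp : p.Prime
  hcomm : ∀ a ∈ P, ∀ b ∈ P, ∃ ζ : F, ζ ^ r = 1 ∧
    (a : Module.End F V) * b = ζ • ((b : Module.End F V) * a)
  hirr : ∀ x : Module.End F V, (∀ a ∈ P, x * a = a * x) → ∃ c : F, x = c • 1
  hnorm : ∀ a, a ∈ P ↔ g * a * g⁻¹ ∈ P
  hexp : Odd r → ∀ a ∈ P, ∃ s : F, s ≠ 0 ∧ (s • (a : Module.End F V)) ^ r = 1
  hord : g ^ p = 1
  hns : ¬ ∃ c : F, (g : Module.End F V) = c • 1

namespace Hyp

variable {P : Subgroup (Module.End F V)ˣ} {g : (Module.End F V)ˣ} {r p : ℕ} (H : Hyp P g r p)

include H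

theorem nontrivial : Nontrivial (Module.End F V) := by
  by_contra hc
  rw [not_nontrivial_iff_subsingleton] at hc
  exact H.hns ⟨1, Subsingleton.elim _ _⟩

theorem smul_cancel {a b : F} (x : (Module.End F V)ˣ) (h : a • (x : Module.End F V) = b • (x : Module.End F V)) :
    a = b :=
  haveI := H.nontrivial
  smul_left_injective F x.ne_zero h

theorem ne_zero_of_pow {ζ : F} (h : ζ ^ r = 1) : ζ ≠ 0 := fun h0 => by
  rw [h0, zero_pow H.hr.ne_zero] at h
  exact zero_ne_one h

theorem exists_prim {a : (Module.End F V)ˣ} (ha : a ∈ P) (hns : ¬ ∃ c : F, (a : Module.End F V) = c • 1) :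
    ∃ b ∈ P, ∃ ζ : F, IsPrimitiveRoot ζ r ∧
      (a : Module.End F V) * b = ζ • ((b : Module.End F V) * a) := by
  by_contra hc
  push Not at hc
  refine hns (H.hirr _ fun b hb => ?_)
  obtain ⟨ζ, hζ, h⟩ := H.hcomm a ha b hb
  rcases eq_or_ne ζ 1 with rfl | hne
  · rwa [one_smul] at h
  haveI := Fact.mk H.hr
  exact absurd h (hc b hb ζ (IsPrimitiveRoot.iff_orderOf.2 (orderOf_eq_prime hζ hne)))

theorem finrank_eigenspace_mul_le [FiniteDimensional F V] {a : (Module.End F V)ˣ} (ha : a ∈ P)
    (hns : ¬ ∃ c : F, (a : Module.End F V) = c • 1) (ν : F) :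
    r * finrank F ↥((a : Module.End F V).eigenspace ν) ≤ finrank F V := by
  obtain ⟨b, -, ζ, hζ, h⟩ := H.exists_prim ha hns
  exact mul_finrank_eigenspace_le a b hζ h ν

theorem twist_pow {a : (Module.End F V)ˣ} {s : F}
    (h : (g : Module.End F V) * a = s • ((a : Module.End F V) * g)) : s ^ p = 1 := by
  have h1 : ∀ k, (g : Module.End F V) ^ k * a = s ^ k • ((a : Module.End F V) * (g : Module.End F V) ^ k) := by
    intro k
    induction k with
    | zero => simp
    | succ k ih =>
      rw [pow_succ, mul_assoc, h, mul_smul_comm, ← mul_assoc, ih, smul_mul_assoc, smul_smul, mul_assoc, ← pow_succ,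
        ← pow_succ']
  have h2 := h1 p
  rw [← Units.val_pow_eq_pow_val, H.hord, Units.val_one, mul_one, one_mul] at h2
  exact (H.smul_cancel a (show (1 : F) • (a : Module.End F V) = _ by rw [one_smul]; exact h2)).symm

/-- All commutators with `g` scalar. -/
theorem of_all_scalar [FiniteDimensional F V]
    (h : ∀ a ∈ P, ∃ s : F, (g : Module.End F V) * a = s • ((a : Module.End F V) * g)) (c : F) :
    p * finrank F ↥((g : Module.End F V).eigenspace c) ≤ finrank F V := by
  by_contra hc
  refine H.hns (H.hirr _ fun a ha => ?_)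
  obtain ⟨s, hs⟩ := h a ha
  rcases eq_or_ne s 1 with rfl | hne
  · rwa [one_smul] at hs
  haveI := Fact.mk H.hp
  exact absurd (mul_finrank_eigenspace_le g a
    (IsPrimitiveRoot.iff_orderOf.2 (orderOf_eq_prime (H.twist_pow hs) hne)) hs c) hc

theorem conj_mem {a : (Module.End F V)ˣ} (ha : a ∈ P) : g * a * g⁻¹ * a⁻¹ ∈ P :=
  P.mul_mem ((H.hnorm a).1 ha) (P.inv_mem ha)

omit H in
theorem inf_map_le_eigenspace (g a : (Module.End F V)ˣ) (c : F) :
    (g : Module.End F V).eigenspace c ⊓ ((g : Module.End F V).eigenspace c).map (a : Module.End F V) ≤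
      ((g * a * g⁻¹ * a⁻¹ : (Module.End F V)ˣ) : Module.End F V).eigenspace 1 := by
  rintro u ⟨hu, w, hw, rfl⟩
  rw [SetLike.mem_coe, mem_eigenspace_iff] at hw hu
  rw [mem_eigenspace_iff, one_smul]
  simp only [Units.val_mul, Module.End.mul_apply]
  rw [← Module.End.mul_apply ((a⁻¹ : (Module.End F V)ˣ) : Module.End F V), Units.inv_mul, Module.End.one_apply]
  rcases eq_or_ne c 0 with rfl | hc
  · rw [zero_smul] at hw
    have : w = 0 := by
      have := congrArg ((g⁻¹ : (Module.End F V)ˣ) : Module.End F V) hw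
      rwa [← Module.End.mul_apply, Units.inv_mul, Module.End.one_apply, map_zero] at this
    simp [this]
  have hw' : ((g⁻¹ : (Module.End F V)ˣ) : Module.End F V) w = c⁻¹ • w := by
    have := congrArg ((g⁻¹ : (Module.End F V)ˣ) : Module.End F V) hw
    rw [← Module.End.mul_apply, Units.inv_mul, Module.End.one_apply, map_smul] at this
    exact (eq_inv_smul_iff₀ hc).2 this.symm
  rw [hw', map_smul, map_smul, hu, smul_smul, inv_mul_cancel₀ hc, one_smul]

omit H in
theorem two_mul_le_inf_add [FiniteDimensional F V] (g a : (Module.End F V)ˣ) (c : F) :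
    2 * finrank F ↥((g : Module.End F V).eigenspace c) ≤ finrank F V +
      finrank F ↥((g : Module.End F V).eigenspace c ⊓ ((g : Module.End F V).eigenspace c).map (a : Module.End F V)) := by
  have h := Submodule.finrank_sup_add_finrank_inf_eq ((g : Module.End F V).eigenspace c)
    (((g : Module.End F V).eigenspace c).map (a : Module.End F V))
  have h2 : finrank F ↥((g : Module.End F V).eigenspace c ⊔
      ((g : Module.End F V).eigenspace c).map (a : Module.End F V)) ≤ finrank F V := Submodule.finrank_le _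
  rw [finrank_map_unit] at h
  omega

/-- The commutator bound. -/
theorem mul_le_of_nonscalar [FiniteDimensional F V] {a : (Module.End F V)ˣ} (ha : a ∈ P)
    (h : ¬ ∃ s : F, (g : Module.End F V) * a = s • ((a : Module.End F V) * g)) (c : F) :
    r * (2 * finrank F ↥((g : Module.End F V).eigenspace c) - finrank F V) ≤ finrank F V := by
  have hy : ¬ ∃ s : F, ((g * a * g⁻¹ * a⁻¹ : (Module.End F V)ˣ) : Module.End F V) = s • 1 := by
    rintro ⟨s, hs⟩
    refine h ⟨s, ?_⟩
    calc (g : Module.End F V) * a = ((g * a * g⁻¹ * a⁻¹ * a * g : (Module.End F V)ˣ) : Module.End F V) := by simp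
      _ = s • ((a : Module.End F V) * g) := by
        rw [Units.val_mul, Units.val_mul, hs, smul_mul_assoc, one_mul, smul_mul_assoc]
  refine le_trans (Nat.mul_le_mul_left r ?_) (H.finrank_eigenspace_mul_le (H.conj_mem ha) hy 1)
  have h1 := Submodule.finrank_mono (inf_map_le_eigenspace g a c)
  have h2 := two_mul_le_inf_add g a c
  omega

/-- The case where some commutator does not commute with its conjugate. -/
theorem two_mul_le_of_not_commute [FiniteDimensional F V] {a : (Module.End F V)ˣ} (ha : a ∈ P)
    (h : ¬ Commute (g * a * g⁻¹ * a⁻¹) (g * (g * a * g⁻¹ * a⁻¹) * g⁻¹)) (c : F) :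
    2 * finrank F ↥((g : Module.End F V).eigenspace c) ≤ finrank F V := by
  set y := g * a * g⁻¹ * a⁻¹ with hy
  obtain ⟨ζ, -, hζ⟩ := H.hcomm y (H.conj_mem ha) (g * y * g⁻¹) ((H.hnorm y).1 (H.conj_mem ha))
  have hne : ζ ≠ 1 := fun h1 => h (Units.ext (by rw [Units.val_mul, hζ, h1, one_smul, ← Units.val_mul]))
  have hbot : (g : Module.End F V).eigenspace c ⊓ ((g : Module.End F V).eigenspace c).map (a : Module.End F V) =
      ⊥ := by
    rw [eq_bot_iff]
    intro u hu
    have h1 : (y : Module.End F V) u = u :=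
      (mem_eigenspace_iff.1 (inf_map_le_eigenspace g a c hu)).trans (one_smul F u)
    have hg : (g : Module.End F V) u = c • u := mem_eigenspace_iff.1 hu.1
    have h2 : ((g * y * g⁻¹ : (Module.End F V)ˣ) : Module.End F V) u = u := by
      have hu0 : ((g * y * g⁻¹ : (Module.End F V)ˣ) : Module.End F V) ((g : Module.End F V) u) =
          (g : Module.End F V) u := by
        rw [← Module.End.mul_apply, ← Units.val_mul, inv_mul_cancel_right, Units.val_mul, Module.End.mul_apply, h1]
      rcases eq_or_ne c 0 with rfl | hc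
      · have h3 : u ∈ (g : Module.End F V).eigenspace 0 := hu.1
        rw [eigenspace_zero_eq_bot, Submodule.mem_bot] at h3
        rw [h3, map_zero]
      · rw [hg, map_smul] at hu0
        exact smul_right_injective V hc hu0
    have h3 := LinearMap.congr_fun hζ u
    rw [Module.End.mul_apply, LinearMap.smul_apply, Module.End.mul_apply, h2, h1, h2] at h3
    rw [Submodule.mem_bot]
    by_contra hu0
    exact hne (smul_left_injective F hu0 (show ζ • u = (1 : F) • u by rw [one_smul]; exact h3.symm))
  have := two_mul_le_inf_add g a c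
  rwa [hbot, finrank_bot, add_zero] at this

theorem mem_center_iff (a : P) : a ∈ Subgroup.center P ↔ ∃ c : F, ((a : (Module.End F V)ˣ) : Module.End F V) = c • 1 := by
  constructor
  · intro ha
    refine H.hirr _ fun b hb => ?_
    have := Subgroup.mem_center_iff.1 ha ⟨b, hb⟩
    exact congrArg (fun x : P => ((x : (Module.End F V)ˣ) : Module.End F V)) this.symm
  · rintro ⟨c, hc⟩
    refine Subgroup.mem_center_iff.2 fun b => Subtype.ext (Units.ext ?_)
    simp [hc]

/-- The commutator of two elements of `P`. -/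
noncomputable def cm (a b : P) : Fˣ :=
  Units.mk0 _ (H.ne_zero_of_pow (H.hcomm a a.2 b b.2).choose_spec.1)

theorem cm_spec (a b : P) : ((a : (Module.End F V)ˣ) : Module.End F V) * (b : (Module.End F V)ˣ) =
    (H.cm a b : F) • (((b : (Module.End F V)ˣ) : Module.End F V) * (a : (Module.End F V)ˣ)) :=
  (H.hcomm a a.2 b b.2).choose_spec.2

theorem cm_eq {a b : P} {s : F} (h : ((a : (Module.End F V)ˣ) : Module.End F V) * (b : (Module.End F V)ˣ) =
    s • (((b : (Module.End F V)ˣ) : Module.End F V) * (a : (Module.End F V)ˣ))) : (H.cm a b : F) = s := by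
  have h1 := (H.cm_spec a b).symm.trans h
  rw [← Units.val_mul] at h1
  exact H.smul_cancel _ h1

theorem cm_mul_right (a b b' : P) : H.cm a (b * b') = H.cm a b * H.cm a b' := by
  refine Units.ext (H.cm_eq ?_)
  simp only [Subgroup.coe_mul, Units.val_mul]
  rw [← mul_assoc, H.cm_spec a b, smul_mul_assoc, mul_assoc, H.cm_spec a b', mul_smul_comm, smul_smul, mul_assoc]

theorem cm_swap (a b : P) : H.cm a b * H.cm b a = 1 := by
  refine Units.ext ?_
  have h := H.cm_spec a b
  rw [H.cm_spec b a, smul_smul, ← Units.val_mul ((a : (Module.End F V)ˣ))] at h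
  exact (H.smul_cancel _ (show (1 : F) • _ = _ by rw [one_smul]; exact h)).symm

theorem cm_mul_left (a a' b : P) : H.cm (a * a') b = H.cm a b * H.cm a' b := by
  rw [eq_inv_of_mul_eq_one_left (H.cm_swap (a * a') b), H.cm_mul_right, mul_inv,
    ← eq_inv_of_mul_eq_one_left (H.cm_swap a b), ← eq_inv_of_mul_eq_one_left (H.cm_swap a' b)]

theorem cm_self (a : P) : H.cm a a = 1 := Units.ext (H.cm_eq (by rw [Units.val_one, one_smul]))

theorem cm_of_mem_center {a : P} (ha : a ∈ Subgroup.center P) (b : P) : H.cm a b = 1 ∧ H.cm b a = 1 := by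
  have h1 : H.cm a b = 1 := Units.ext (H.cm_eq (by
    rw [Units.val_one, one_smul]
    exact congrArg (fun x : P => ((x : (Module.End F V)ˣ) : Module.End F V)) (Subgroup.mem_center_iff.1 ha b).symm))
  exact ⟨h1, by have := H.cm_swap a b; rwa [h1, one_mul] at this⟩

theorem mul_comm_quot (x y : P ⧸ Subgroup.center P) : x * y = y * x := by
  induction x using QuotientGroup.induction_on with
  | _ a =>
  induction y using QuotientGroup.induction_on with
  | _ b =>
  rw [← QuotientGroup.mk_mul, ← QuotientGroup.mk_mul, QuotientGroup.eq, H.mem_center_iff]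
  refine ⟨H.cm b a, ?_⟩
  simp only [Subgroup.coe_mul, Subgroup.coe_inv, Units.val_mul]
  rw [H.cm_spec b a, mul_smul_comm, ← Units.val_mul, ← Units.val_mul, inv_mul_cancel, Units.val_one]

/-- Conjugation by `g` on `P`. -/
def conjP : P ≃* P where
  toFun a := ⟨g * a * g⁻¹, (H.hnorm a).1 a.2⟩
  invFun a := ⟨g⁻¹ * a * g, (H.hnorm _).2 (by simp [mul_assoc])⟩
  left_inv a := Subtype.ext (by simp [mul_assoc])
  right_inv a := Subtype.ext (by simp [mul_assoc])
  map_mul' a b := Subtype.ext (by simp [mul_assoc])

theorem coe_conjP (a : P) : (H.conjP a : (Module.End F V)ˣ) = g * a * g⁻¹ := rfl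

theorem cm_conjP (a b : P) : H.cm (H.conjP a) (H.conjP b) = H.cm a b := by
  refine Units.ext (H.cm_eq ?_)
  simp only [coe_conjP, Units.val_mul, mul_assoc, Units.inv_mul_cancel_left]
  rw [← mul_assoc ((a : (Module.End F V)ˣ) : Module.End F V), H.cm_spec a b]
  simp only [smul_mul_assoc, mul_smul_comm, mul_assoc]

/-- Abelian quotient of `P`. -/
noncomputable abbrev quotComm : CommGroup (P ⧸ Subgroup.center P) :=
  { (inferInstance : Group (P ⧸ Subgroup.center P)) with mul_comm := H.mul_comm_quot }

/-- The setting on the quotient of `P` by its centre. -/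
noncomputable def setting (hodd : Odd p) :
    letI := H.quotComm
    Setting (P ⧸ Subgroup.center P) Fˣ r p := by
  letI := H.quotComm
  let β0 : P → (P ⧸ Subgroup.center P) →* Fˣ := fun a => QuotientGroup.lift (Subgroup.center P)
    { toFun := fun b => H.cm a b
      map_one' := (H.cm_of_mem_center (Subgroup.one_mem _) a).2
      map_mul' := H.cm_mul_right a } fun b hb => (H.cm_of_mem_center hb a).2
  let β1 : P →* (P ⧸ Subgroup.center P) →* Fˣ :=
    { toFun := β0
      map_one' := QuotientGroup.monoidHom_ext _ (MonoidHom.ext fun b => (H.cm_of_mem_center (Subgroup.one_mem _) b).1)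
      map_mul' := fun a a' => QuotientGroup.monoidHom_ext _ (MonoidHom.ext fun b => H.cm_mul_left a a' b) }
  exact
    { β := QuotientGroup.lift (Subgroup.center P) β1 fun a ha =>
        QuotientGroup.monoidHom_ext _ (MonoidHom.ext fun b => (H.cm_of_mem_center ha b).1)
      φ := QuotientGroup.congr (Subgroup.center P) (Subgroup.center P) H.conjP
        (Subgroup.characteristic_iff_map_eq.1 inferInstance _)
      halt := fun x => by
        induction x using QuotientGroup.induction_on with
        | _ a => exact H.cm_self a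
      hnd := fun x => by
        induction x using QuotientGroup.induction_on with
        | _ a =>
          intro h
          rw [QuotientGroup.eq_one_iff, H.mem_center_iff]
          refine H.hirr _ fun b hb => ?_
          have h1 : H.cm a ⟨b, hb⟩ = 1 := h (QuotientGroup.mk ⟨b, hb⟩)
          have := H.cm_spec a ⟨b, hb⟩
          rwa [h1, Units.val_one, one_smul] at this
      hinv := fun x y => by
        induction x using QuotientGroup.induction_on with
        | _ a =>
          induction y using QuotientGroup.induction_on with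
          | _ b => exact H.cm_conjP a b
      hr := H.hr
      hexp := fun x => by
        induction x using QuotientGroup.induction_on with
        | _ a =>
          rw [← QuotientGroup.mk_pow, QuotientGroup.eq_one_iff, H.mem_center_iff]
          refine H.hirr _ fun b hb => ?_
          obtain ⟨ζ, hζ, h⟩ := H.hcomm b hb a a.2
          have := pow_mul_of_twist h r
          rw [hζ, one_smul] at this
          rw [Subgroup.coe_pow, Units.val_pow_eq_pow_val]
          exact this.symm
      hp := hodd
      hpow := fun x => by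
        induction x using QuotientGroup.induction_on with
        | _ a =>
          have h1 : ∀ k : ℕ, ((fun b : P => H.conjP b)^[k] a : (Module.End F V)ˣ) = g ^ k * a * (g ^ k)⁻¹ := by
            intro k
            induction k with
            | zero => simp
            | succ k ih => rw [Function.iterate_succ_apply', coe_conjP, ih, pow_succ']; simp [mul_assoc]
          have h2 : (fun b : P => H.conjP b)^[p] a = a := Subtype.ext (by rw [h1, H.hord]; simp)
          have h3 : ∀ k : ℕ, (fun y => (QuotientGroup.congr (Subgroup.center P) (Subgroup.center P) H.conjP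
              (Subgroup.characteristic_iff_map_eq.1 inferInstance _)) y)^[k] (QuotientGroup.mk a) =
              QuotientGroup.mk ((fun b : P => H.conjP b)^[k] a) := by
            intro k
            induction k with
            | zero => rfl
            | succ k ih => rw [Function.iterate_succ_apply', Function.iterate_succ_apply', ih]; rfl
          exact (h3 p).trans (congrArg _ h2) }

theorem exists_normalised {a : (Module.End F V)ˣ} (ha : a ∈ P) (hodd : Odd r) :
    ∃ (b : (Module.End F V)ˣ) (s : F), s ≠ 0 ∧ (b : Module.End F V) = s • (a : Module.End F V) ∧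
      (b : Module.End F V) ^ r = 1 := by
  obtain ⟨s, hs, h⟩ := H.hexp hodd a ha
  refine ⟨⟨s • (a : Module.End F V), s⁻¹ • ((a⁻¹ : (Module.End F V)ˣ) : Module.End F V), ?_, ?_⟩, s, hs, rfl, h⟩
  · rw [smul_mul_smul_comm, mul_inv_cancel₀ hs, one_smul, Units.mul_inv]
  · rw [smul_mul_smul_comm, inv_mul_cancel₀ hs, one_smul, Units.inv_mul]

/-- The main bound for odd `p`, `(p, r) ≠ (3, 3)`. -/
theorem two_mul_le [FiniteDimensional F V] [Finite F] (hodd : Odd p) (hne : ¬ (p = 3 ∧ r = 3)) (c : F) :
    2 * finrank F ↥((g : Module.End F V).eigenspace c) ≤ finrank F V := by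
  have hp2 : 3 ≤ p := by
    rcases hodd with ⟨k, hk⟩
    have := H.hp.two_le
    omega
  set d := finrank F ↥((g : Module.End F V).eigenspace c) with hd
  by_cases h1 : ∀ a ∈ P, ∃ s : F, (g : Module.End F V) * a = s • ((a : Module.End F V) * g)
  · have := H.of_all_scalar h1 c
    rw [← hd] at this
    nlinarith [Nat.mul_le_mul_right d hp2]
  by_cases h2 : ∀ a ∈ P, Commute (g * a * g⁻¹ * a⁻¹) (g * (g * a * g⁻¹ * a⁻¹) * g⁻¹)
  swap
  · push Not at h2
    obtain ⟨a, ha, h2⟩ := h2
    exact H.two_mul_le_of_not_commute ha h2 c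
  haveI : Finite V := Module.finite_of_finite F
  haveI : Finite (Module.End F V) := Module.finite_of_finite F
  letI := H.quotComm
  let S := H.setting hodd
  have hS : ∀ x, S.β (fd S.φ x) (S.φ (fd S.φ x)) = 1 := by
    intro x
    induction x using QuotientGroup.induction_on with
    | _ a =>
      let yP : P := H.conjP a * a⁻¹
      have hfd : fd S.φ (QuotientGroup.mk a) = QuotientGroup.mk yP := div_eq_mul_inv _ _
      rw [hfd]
      show H.cm yP (H.conjP yP) = 1
      refine Units.ext (H.cm_eq ?_)
      rw [Units.val_one, one_smul]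
      exact congrArg Units.val (h2 a a.2).eq
  have hscal : ∀ a : P, S.φ (QuotientGroup.mk a) = QuotientGroup.mk a →
      ∃ s : F, (g : Module.End F V) * (a : (Module.End F V)ˣ) =
        s • (((a : (Module.End F V)ˣ) : Module.End F V) * g) := by
    intro a h
    have h' : (QuotientGroup.mk (H.conjP a) : P ⧸ Subgroup.center P) = QuotientGroup.mk a := h
    rw [eq_comm, QuotientGroup.eq, H.mem_center_iff] at h'
    obtain ⟨s, hs⟩ := h'
    refine ⟨s, ?_⟩
    calc (g : Module.End F V) * (a : (Module.End F V)ˣ)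
        = ((a * ((a : (Module.End F V)ˣ)⁻¹ * (g * a * g⁻¹)) * g : (Module.End F V)ˣ) : Module.End F V) := by simp
      _ = _ := by
        rw [Units.val_mul, Units.val_mul,
          show (((a : (Module.End F V)ˣ)⁻¹ * (g * a * g⁻¹) : (Module.End F V)ˣ) : Module.End F V) = s • 1 from hs,
          mul_smul_comm, mul_one, smul_mul_assoc]
  rcases eq_or_ne p r with hpr | hpr
  swap
  · refine absurd (fun a ha => ?_) h1
    exact hscal ⟨a, ha⟩ (S.eq_self H.hp hpr hS _)
  have hr5 : 4 ≤ r := by
    rcases Nat.lt_or_ge r 4 with hlt | hge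
    · exact absurd ⟨by omega, by omega⟩ hne
    · exact hge
  have hrodd : Odd r := hpr ▸ hodd
  suffices r * d ≤ 2 * finrank F V by nlinarith [Nat.mul_le_mul_right d hr5]
  haveI := Fact.mk H.hr
  by_cases h3 : ∀ a : P, fd S.φ (fd S.φ (QuotientGroup.mk a)) = 1
  · obtain ⟨a, ha⟩ : ∃ a : P, S.β (QuotientGroup.mk a) (S.φ (QuotientGroup.mk a)) ≠ 1 := by
      by_contra hc
      push Not at hc
      refine h1 fun a ha => hscal ⟨a, ha⟩ (S.eq_self_of_all (fun x => ?_) _)
      induction x using QuotientGroup.induction_on with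
      | _ b => exact hc b
    let y0 : P := H.conjP a * a⁻¹
    have hfd : fd S.φ (QuotientGroup.mk a) = QuotientGroup.mk y0 := div_eq_mul_inv _ _
    have hyfix : S.φ (QuotientGroup.mk y0) = QuotientGroup.mk y0 := by
      have := h3 a
      rwa [hfd, fd_apply, div_eq_one] at this
    obtain ⟨s₁, hs₁⟩ := hscal y0 hyfix
    obtain ⟨b, sa, hsa, hb, hbr⟩ := H.exists_normalised a.2 hrodd
    obtain ⟨y, sy, hsy, hy, hyr⟩ := H.exists_normalised y0.2 hrodd
    rcases eq_or_ne s₁ 1 with rfl | hs1
    swap
    · have := mul_finrank_eigenspace_le g (y0 : (Module.End F V)ˣ)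
        (IsPrimitiveRoot.iff_orderOf.2 (orderOf_eq_prime (hpr ▸ H.twist_pow hs₁) hs1)) hs₁ c
      rw [← hd] at this
      omega
    have hgy : Commute (g : Module.End F V) y := by
      rw [one_smul] at hs₁
      show _ * _ = _ * _
      rw [hy, mul_smul_comm, smul_mul_assoc, hs₁]
    have hcm : H.cm y0 a ≠ 1 := by
      intro h
      refine ha ?_
      show H.cm a (H.conjP a) = 1
      have : H.conjP a = y0 * a := (inv_mul_cancel_right _ _).symm
      rw [this, H.cm_mul_right, H.cm_self, mul_one]
      have := H.cm_swap y0 a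
      rwa [h, one_mul] at this
    have hroot : (H.cm y0 a : F) ^ r = 1 := by
      obtain ⟨ζ, hζ, h⟩ := H.hcomm y0 y0.2 a a.2
      rwa [H.cm_eq h]
    have he : IsPrimitiveRoot (H.cm y0 a : F) r :=
      IsPrimitiveRoot.iff_orderOf.2 (orderOf_eq_prime hroot (by simpa using hcm))
    refine two_mul_finrank_le_quadratic g b y H.hr (by omega) he hgy ?_ hbr hyr (s := sy⁻¹ * (H.cm y0 a : F)) ?_ c
    · rw [hy, hb, smul_mul_smul_comm, H.cm_spec, smul_mul_smul_comm, smul_smul, smul_smul]
      congr 1
      ring
    · have e1 : (g : Module.End F V) * (a : (Module.End F V)ˣ) =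
          ((y0 : (Module.End F V)ˣ) : Module.End F V) * (a : (Module.End F V)ˣ) * g := by
        rw [← Units.val_mul, ← Units.val_mul, ← Units.val_mul]
        congr 1
        show g * (a : (Module.End F V)ˣ) = (g * a * g⁻¹ * (a : (Module.End F V)ˣ)⁻¹) * a * g
        simp
      rw [hb, hy, mul_smul_comm, e1, H.cm_spec, smul_mul_smul_comm]
      simp only [smul_mul_assoc, smul_smul]
      congr 1
      field_simp
  · push Not at h3
    obtain ⟨a, ha⟩ := h3
    let y0 : P := H.conjP a * a⁻¹
    let z0 : P := H.conjP y0 * y0⁻¹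
    have hfy : fd S.φ (QuotientGroup.mk a) = QuotientGroup.mk y0 := div_eq_mul_inv _ _
    have hfz : fd S.φ (QuotientGroup.mk y0) = QuotientGroup.mk z0 := div_eq_mul_inv _ _
    rw [hfy, hfz] at ha
    have hzfix : S.φ (QuotientGroup.mk z0) = QuotientGroup.mk z0 := by
      have := (S.fd_four hS (QuotientGroup.mk a)).2 hrodd
      rwa [hfy, hfz, fd_apply, div_eq_one] at this
    obtain ⟨s₁, hs₁⟩ := hscal z0 hzfix
    obtain ⟨z, sz, hsz, hz, hzr⟩ := H.exists_normalised z0.2 hrodd
    obtain ⟨y, sy, hsy, hy, hyr⟩ := H.exists_normalised y0.2 hrodd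
    rcases eq_or_ne s₁ 1 with rfl | hs1
    swap
    · have := mul_finrank_eigenspace_le g (z0 : (Module.End F V)ˣ)
        (IsPrimitiveRoot.iff_orderOf.2 (orderOf_eq_prime (hpr ▸ H.twist_pow hs₁) hs1)) hs₁ c
      rw [← hd] at this
      omega
    have hgz : Commute (g : Module.End F V) z := by
      rw [one_smul] at hs₁
      show _ * _ = _ * _
      rw [hz, mul_smul_comm, smul_mul_assoc, hs₁]
    have hcm : H.cm z0 y0 = 1 := by
      have h4 := hS (QuotientGroup.mk a)
      rw [hfy] at h4
      have h5 : H.cm y0 (H.conjP y0) = 1 := h4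
      rw [show H.conjP y0 = z0 * y0 from (inv_mul_cancel_right _ _).symm, H.cm_mul_right, H.cm_self, mul_one] at h5
      have := H.cm_swap y0 z0
      rwa [h5, one_mul] at this
    have hzy : ((z0 : (Module.End F V)ˣ) : Module.End F V) * (y0 : (Module.End F V)ˣ) =
        ((y0 : (Module.End F V)ˣ) : Module.End F V) * (z0 : (Module.End F V)ˣ) := by
      rw [H.cm_spec, hcm, Units.val_one, one_smul]
    have hzns : ¬ ∃ c : F, ((z0 : (Module.End F V)ˣ) : Module.End F V) = c • 1 := fun h =>
      ha ((QuotientGroup.eq_one_iff _).2 ((H.mem_center_iff _).2 h))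
    obtain ⟨b, -, e, he, hzb⟩ := H.exists_prim z0.2 hzns
    refine two_mul_finrank_le_linear g y z H.hr he hgz ?_ hyr hzr (s := sz⁻¹) ?_ (fun ν => ?_) c
    · show _ * _ = _ * _
      rw [hy, hz, smul_mul_smul_comm, smul_mul_smul_comm, hzy, mul_comm sy]
    · have e1 : (g : Module.End F V) * (y0 : (Module.End F V)ˣ) =
          ((z0 : (Module.End F V)ˣ) : Module.End F V) * (y0 : (Module.End F V)ˣ) * g := by
        rw [← Units.val_mul, ← Units.val_mul, ← Units.val_mul]
        congr 1
        show g * (y0 : (Module.End F V)ˣ) = (g * y0 * g⁻¹ * (y0 : (Module.End F V)ˣ)⁻¹) * y0 * g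
        simp
      rw [hy, hz, mul_smul_comm, e1, hzy, smul_mul_smul_comm]
      simp only [smul_mul_assoc, smul_smul]
      congr 1
      field_simp
    · refine mul_finrank_eigenspace_le z b he ?_ ν
      rw [hz, smul_mul_assoc, hzb, mul_smul_comm, smul_comm]

end Hyp

end Cfsg.Agent.H98.ExtraEigen
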